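import Groth.Agent.SectRingLib.Basic

/-!
The section ring of a point modulo the degree one element is the semigroup algebra; its embedding
dimension.
-/

namespace Groth.Agent.SectRingLib

open _root_.FunFld _root_.W4c6gradedringsgw WithZero Polynomial

universe u

variable {k : Type u} [Field k] [IsAlgClosed k] {K : Type u} [Field K] [Algebra k K]
  (hK : IsFunctionField k K) (P : Place k K)

include hK in
theorem add_mem_poleOrders {a b : ℕ} (ha : a ∈ poleOrders P) (hb : b ∈ poleOrders P) :
    a + b ∈ poleOrders P := by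
  obtain ⟨x, hx⟩ := (mem_poleOrders_iff hK P).1 ha
  obtain ⟨y, hy⟩ := (mem_poleOrders_iff hK P).1 hb
  have hxy : x.1 * y.1 ∈ L (((a + b : ℕ) : ℤ) • pt P) := by
    have h := W4c6gradedringsgw.mul_mem_L x.2 y.2
    rwa [← add_smul, ← Nat.cast_add] at h
  exact (mem_poleOrders_iff hK P).2 ⟨⟨_, hxy⟩, by rw [phi_mul hK P rfl, hx, hy, one_mul]⟩

include hK in
theorem closure_poleOrders : (AddSubmonoid.closure (poleOrders P) : Set ℕ) = poleOrders P := by
  refine Set.Subset.antisymm (fun n hn => ?_) AddSubmonoid.subset_closure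
  induction hn using AddSubmonoid.closure_induction with
  | mem x hx => exact hx
  | zero => exact zero_mem_poleOrders hK P
  | add a b _ _ ha hb => exact add_mem_poleOrders hK P ha hb

/-- The semigroup algebra inside `k[T]`. -/
noncomputable def iota :
    AddMonoidAlgebra k ↥(AddSubmonoid.closure (poleOrders P)) →ₐ[k] Polynomial k :=
  (toFinsuppIsoAlg k).symm.toAlgHom.comp
    (AddMonoidAlgebra.mapDomainAlgHom k k (AddSubmonoid.closure (poleOrders P)).subtype)

omit [IsAlgClosed k] in
theorem iota_single (h : ↥(AddSubmonoid.closure (poleOrders P))) (c : k) :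
    iota P (AddMonoidAlgebra.single h c) = monomial h.1 c := by
  simp [iota, AddMonoidAlgebra.mapDomain_single, Polynomial.toFinsuppIsoAlg, Polynomial.toFinsuppIso,
    ← Polynomial.ofFinsupp_single]
  all_goals rfl

omit [IsAlgClosed k] in
theorem iota_injective : Function.Injective (iota (k := k) P) := by
  refine (toFinsuppIsoAlg k).symm.injective.comp ?_
  exact AddMonoidAlgebra.mapDomain_injective Subtype.val_injective

theorem range_lead : (lead hK P).range = (iota P).range := by
  refine le_antisymm ?_ ?_
  · rintro q ⟨p, rfl⟩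
    change lead hK P p ∈ (iota P).range
    rw [(lead hK P p).as_sum_support]
    refine Subalgebra.sum_mem _ fun n hn => ?_
    rw [mem_support_iff, coeff_lead] at hn
    exact ⟨AddMonoidAlgebra.single ⟨n, AddSubmonoid.subset_closure (mem_of_phi_ne_zero hK P hn)⟩
      ((lead hK P p).coeff n), iota_single P _ _⟩
  · rintro q ⟨a, rfl⟩
    change iota P a ∈ (lead hK P).range
    induction a using AddMonoidAlgebra.induction_on with
    | of h =>
      obtain ⟨x, hx⟩ := (mem_poleOrders_iff hK P).1
        ((closure_poleOrders hK P).le h.2)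
      refine ⟨⟨monomial h.1 x.1, monomial_mem P x.2⟩, ?_⟩
      change lead hK P _ = iota P _
      rw [lead_monomial, hx]
      exact (iota_single P h 1).symm
    | add a b ha hb => rw [map_add]; exact add_mem ha hb
    | smul c a ha => rw [map_smul]; exact Subalgebra.smul_mem _ ha c

include hK in
theorem prime_and_equiv (hg : 1 ≤ genus k K) (t : ↥(sectRing (pt P))) (a : K) (ha : a ≠ 0)
    (ht : (t : Polynomial K) = Polynomial.C a * Polynomial.X) :
    Prime t ∧ Nonempty ((↥(sectRing (pt P)) ⧸ Ideal.span {t}) ≃ₐ[k]
      AddMonoidAlgebra k ↥(AddSubmonoid.closure (poleOrders P))) := by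
  have ha1 : a ∈ L ((1 : ℤ) • pt P) := by
    have := t.2 1
    rw [ht] at this
    simpa using this
  obtain ⟨c, rfl⟩ := mem_L_one_iff hK P hg ha1
  have hc : c ≠ 0 := fun e => ha (by rw [e, map_zero])
  have hker : RingHom.ker (lead hK P) = Ideal.span {t} := by
    refine le_antisymm (fun p hp => ?_) (by
      rw [Ideal.span_le, Set.singleton_subset_iff, SetLike.mem_coe, RingHom.mem_ker]
      ext n
      rw [coeff_lead, coeff_zero, phi_eq_zero_iff]
      show t.1.coeff n ∈ _
      rw [ht, coeff_C_mul_X]
      split_ifs with h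
      · subst h
        intro Q
        simpa using Q.2.1 c
      · exact zero_mem _)
    have hcoe : ∀ n : ℕ, p.1.coeff n ∈ L (((n : ℤ) - 1) • pt P) := fun n => by
      have := congrArg (fun q => coeff q n) (RingHom.mem_ker.1 hp)
      simp only [coeff_lead, coeff_zero] at this
      exact (phi_eq_zero_iff hK P _).1 this
    have hd : Polynomial.C (algebraMap k K c⁻¹) * p.1.divX ∈ sectRing (pt P) := fun n => by
      rw [coeff_C_mul, coeff_divX, ← Algebra.smul_def]
      refine Submodule.smul_mem _ _ ?_
      simpa using hcoe (n + 1)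
    rw [Ideal.mem_span_singleton]
    refine ⟨⟨_, hd⟩, Subtype.ext ?_⟩
    have h0 : p.1.coeff 0 = 0 := by
      have h := hcoe 0
      by_contra hne
      obtain ⟨d, hd'⟩ : ∃ d : k, p.1.coeff 0 = algebraMap k K d := by
        have := p.2 0
        rw [show ((0 : ℕ) : ℤ) • pt P = 0 by simp, FunFld.L_zero hK, Submodule.mem_one] at this
        exact this.imp fun _ e => e.symm
      have := h P
      rw [smul_pt_self, hd', FunFld.val_algebraMap P (fun e => hne (by rw [hd', e, map_zero])),
        ← exp_zero, exp_le_exp] at this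
      omega
    show p.1 = t.1 * (Polynomial.C (algebraMap k K c⁻¹) * p.1.divX)
    have hcc : Polynomial.C (algebraMap k K c) * Polynomial.C (algebraMap k K c⁻¹) = 1 := by
      rw [← map_mul, ← map_mul, mul_inv_cancel₀ hc, map_one, map_one]
    rw [ht, mul_mul_mul_comm, hcc, one_mul]
    conv_lhs => rw [← X_mul_divX_add p.1, h0, map_zero, add_zero]
  have hdom : (Ideal.span {t}).IsPrime := hker ▸ RingHom.ker_isPrime (lead hK P)
  have ht0 : t ≠ 0 := fun e => by
    have := congrArg (fun q : ↥(sectRing (pt P)) => q.1.coeff 1) e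
    rw [ht] at this
    simp [hc] at this
  refine ⟨(Ideal.span_singleton_prime ht0).1 hdom, ⟨?_⟩⟩
  exact ((Ideal.quotientEquivAlgOfEq k hker.symm).trans (Ideal.quotientKerEquivRange (lead hK P))).trans
    ((Subalgebra.equivOfEq _ _ (range_lead hK P)).trans (AlgEquiv.ofInjective _ (iota_injective P)).symm)

include hK in
theorem minGens_finite : (minGens (poleOrders P)).Finite := by
  refine (Set.finite_Iio (4 * genus k K + 3)).subset fun h hh => ?_
  by_contra hlt
  rw [Set.mem_Iio, not_lt] at hlt
  exact hh.2.2 (2 * genus k K + 1) (mem_poleOrders_of_large hK P le_rfl) (h - (2 * genus k K + 1))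
    (mem_poleOrders_of_large hK P (by omega)) (by omega) (by omega) (by omega)

theorem lead_coeff_mul_eq_zero {h : ℕ} (hh : h ∈ minGens (poleOrders P)) (r g : ↥(sectRing (pt P)))
    (hg : (lead hK P g).coeff 0 = 0) :
    (lead hK P (r * g)).coeff h = (lead hK P r).coeff 0 * (lead hK P g).coeff h := by
  rw [map_mul, coeff_mul, Finset.sum_eq_single (0, h)]
  · intro x hx hne
    rw [Finset.HasAntidiagonal.mem_antidiagonal] at hx
    rcases Nat.eq_zero_or_pos x.1 with h1 | h1
    · exact absurd (Prod.ext h1 (by omega : x.2 = h)) hne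
    rcases Nat.eq_zero_or_pos x.2 with h2 | h2
    · rw [h2, hg, mul_zero]
    by_contra hne'
    rw [mul_eq_zero, not_or, coeff_lead, coeff_lead] at hne'
    exact hh.2.2 x.1 (mem_of_phi_ne_zero hK P hne'.1) x.2 (mem_of_phi_ne_zero hK P hne'.2)
      (by omega) (by omega) hx
  · simp

include hK in
theorem spanFinrank_irrelevant (hg : 1 ≤ genus k K) :
    (RingHom.ker (Polynomial.constantCoeff.comp (sectRing (pt P)).val.toRingHom)).spanFinrank =
      Set.ncard (minGens (poleOrders P)) + 1 := by
  classical
  set J := RingHom.ker (Polynomial.constantCoeff.comp (sectRing (pt P)).val.toRingHom) with hJ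
  let G := minGens (poleOrders P)
  have hGfin : G.Finite := minGens_finite hK P
  haveI : Fintype G := hGfin.fintype
  have hmem : ∀ h : G, ∃ x : L (((h : ℕ) : ℤ) • pt P), phi hK P h x = 1 :=
    fun h => (mem_poleOrders_iff hK P).1 h.2.1
  choose y hy using hmem
  let s : G → ↥(sectRing (pt P)) := fun h => ⟨monomial h.1 (y h).1, monomial_mem P (y h).2⟩
  have hone : (1 : K) ∈ L (((1 : ℕ) : ℤ) • pt P) := by
    intro Q
    rw [map_one, ← exp_zero, exp_le_exp]
    rcases eq_or_ne Q P with rfl | hQ
    · rw [smul_pt_self]; norm_num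
    · rw [smul_pt_ne hQ]
  let T : ↥(sectRing (pt P)) := ⟨monomial 1 1, monomial_mem P hone⟩
  let S : Set ↥(sectRing (pt P)) := insert T (Set.range s)
  have hhpos : ∀ h : G, (h : ℕ) ≠ 0 := fun h => h.2.2.1
  have hJmem : ∀ p : ↥(sectRing (pt P)), p ∈ J ↔ p.1.coeff 0 = 0 := fun p => Iff.rfl
  have hmono : ∀ (n : ℕ), 1 ≤ n → ∀ (x : L ((n : ℤ) • pt P)),
      (⟨monomial n x.1, monomial_mem P x.2⟩ : ↥(sectRing (pt P))) ∈ Ideal.span S := by
    intro n
    induction n using Nat.strong_induction_on with
    | _ n ih =>
      intro hn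
      have hlow : ∀ z : L ((n : ℤ) • pt P), phi hK P n z = 0 →
          (⟨monomial n z.1, monomial_mem P z.2⟩ : ↥(sectRing (pt P))) ∈ Ideal.span S := by
        intro z hz
        have hz' := (phi_eq_zero_iff hK P z).1 hz
        rcases Nat.lt_or_ge n 2 with hn2 | hn2
        · obtain rfl : n = 1 := by omega
          obtain ⟨c, hc⟩ := mem_L_one_iff hK P hg (by simpa using z.2)
          have e : (⟨monomial 1 z.1, monomial_mem P z.2⟩ : ↥(sectRing (pt P))) = c • T := Subtype.ext (by
            show monomial 1 z.1 = c • monomial 1 (1 : K)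
            rw [smul_monomial, hc, Algebra.smul_def, mul_one])
          rw [e]
          exact Submodule.smul_of_tower_mem _ c (Ideal.subset_span (Set.mem_insert _ _))
        · have hz'' : z.1 ∈ L (((n - 1 : ℕ) : ℤ) • pt P) := by
            rwa [Nat.cast_sub (by omega), Nat.cast_one]
          have e : (⟨monomial n z.1, monomial_mem P z.2⟩ : ↥(sectRing (pt P))) =
              ⟨monomial (n - 1) z.1, monomial_mem P hz''⟩ * T := Subtype.ext (by
            show monomial n z.1 = monomial (n - 1) z.1 * monomial 1 (1 : K)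
            rw [monomial_mul_monomial, mul_one, Nat.sub_add_cancel (by omega)])
          rw [e]
          exact Ideal.mul_mem_left _ _ (Ideal.subset_span (Set.mem_insert _ _))
      intro x
      by_cases hx : phi hK P n x = 0
      · exact hlow x hx
      obtain ⟨w, hw, hwS⟩ : ∃ w : L ((n : ℤ) • pt P), phi hK P n w = 1 ∧
          (⟨monomial n w.1, monomial_mem P w.2⟩ : ↥(sectRing (pt P))) ∈ Ideal.span S := by
        by_cases hG : n ∈ G
        · exact ⟨y ⟨n, hG⟩, hy ⟨n, hG⟩, Ideal.subset_span (Set.mem_insert_of_mem _ ⟨⟨n, hG⟩, rfl⟩)⟩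
        · have hnH := mem_of_phi_ne_zero hK P hx
          obtain ⟨a, ha, b, hb, ha0, hb0, hab⟩ :
              ∃ a ∈ poleOrders P, ∃ b ∈ poleOrders P, a ≠ 0 ∧ b ≠ 0 ∧ a + b = n := by
            by_contra hcon
            push Not at hcon
            exact hG ⟨hnH, by omega, hcon⟩
          obtain ⟨u, hu⟩ := (mem_poleOrders_iff hK P).1 ha
          obtain ⟨v, hv⟩ := (mem_poleOrders_iff hK P).1 hb
          have huv : u.1 * v.1 ∈ L ((n : ℤ) • pt P) := by
            have h := W4c6gradedringsgw.mul_mem_L u.2 v.2
            rwa [← add_smul, ← Nat.cast_add, hab] at h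
          refine ⟨⟨_, huv⟩, by rw [phi_mul hK P hab, hu, hv, one_mul], ?_⟩
          have e : (⟨monomial n (u.1 * v.1), monomial_mem P huv⟩ : ↥(sectRing (pt P))) =
              ⟨monomial a u.1, monomial_mem P u.2⟩ * ⟨monomial b v.1, monomial_mem P v.2⟩ := Subtype.ext (by
            show monomial n (u.1 * v.1) = monomial a u.1 * monomial b v.1
            rw [monomial_mul_monomial, hab])
          rw [e]
          exact Ideal.mul_mem_left _ _ (ih b (by omega) (by omega) v)
      have h0 : phi hK P n (x - phi hK P n x • w) = 0 := by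
        rw [map_sub, map_smul, hw, smul_eq_mul, mul_one, sub_self]
      have := add_mem (hlow _ h0) (Submodule.smul_of_tower_mem _ (phi hK P n x) hwS)
      have e : (⟨monomial n x.1, monomial_mem P x.2⟩ : ↥(sectRing (pt P))) =
          ⟨monomial n (x - phi hK P n x • w).1, monomial_mem P (x - phi hK P n x • w).2⟩ +
            phi hK P n x • ⟨monomial n w.1, monomial_mem P w.2⟩ := Subtype.ext (by
        show monomial n x.1 = monomial n (x.1 - phi hK P n x • w.1) + phi hK P n x • monomial n w.1
        rw [smul_monomial, ← map_add, sub_add_cancel])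
      rw [e]
      exact this
  have hspan : J = Ideal.span S := by
    refine le_antisymm (fun p hp => ?_) (Ideal.span_le.2 ?_)
    · have e : p = ∑ n ∈ Finset.range (p.1.natDegree + 1),
          (⟨monomial n (p.1.coeff n), monomial_mem P (p.2 n)⟩ : ↥(sectRing (pt P))) := Subtype.ext (by
        rw [AddSubmonoidClass.coe_finsetSum]
        exact p.1.as_sum_range)
      rw [e]
      refine Ideal.sum_mem _ fun n _ => ?_
      rcases Nat.eq_zero_or_pos n with rfl | hn
      · have hz : (⟨monomial 0 (p.1.coeff 0), monomial_mem P (p.2 0)⟩ : ↥(sectRing (pt P))) = 0 :=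
          Subtype.ext (by simp [(hJmem p).1 hp])
        rw [hz]; exact zero_mem _
      · exact hmono n hn ⟨_, p.2 n⟩
    · rintro q (rfl | ⟨h, rfl⟩)
      · exact (hJmem _).2 (by simp [T, coeff_monomial])
      · exact (hJmem _).2 (by simp [s, coeff_monomial, hhpos h])
  have hSfin : S.Finite := (Set.finite_range s).insert T
  refine le_antisymm ?_ ?_
  · rw [hspan]
    refine (Submodule.spanFinrank_span_le_ncard_of_finite hSfin).trans ?_
    refine (Set.ncard_insert_le _ _).trans (Nat.add_le_add_right ?_ 1)
    rw [← Set.image_univ]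
    refine (Set.ncard_image_le Set.finite_univ).trans ?_
    rw [Set.ncard_univ]
    exact (Nat.card_coe_set_eq G).le
  have hfg : J.FG := hspan ▸ ⟨hSfin.toFinset, by simp⟩
  obtain ⟨B, hBcard, hB⟩ := Submodule.FG.exists_span_finset_card_eq_spanFinrank hfg
  -- the functional
  let c1 : ↥(sectRing (pt P)) → k := fun p =>
    if h : ∃ c : k, p.1.coeff 1 = algebraMap k K c then h.choose else 0
  have hc1 : ∀ p : ↥(sectRing (pt P)), p.1.coeff 1 = algebraMap k K (c1 p) := fun p => by
    have h : ∃ c : k, p.1.coeff 1 = algebraMap k K c := mem_L_one_iff hK P hg (by simpa using p.2 1)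
    simp only [c1, dif_pos h]
    exact h.choose_spec
  let F : ↥(sectRing (pt P)) → (Option G → k) := fun p o =>
    o.elim (c1 p) (fun h => (lead hK P p).coeff h.1)
  have hFadd : ∀ p q, F (p + q) = F p + F q := fun p q => by
    funext o
    cases o with
    | none =>
      refine (algebraMap k K).injective ?_
      show algebraMap k K (c1 (p + q)) = algebraMap k K (c1 p + c1 q)
      rw [map_add, ← hc1, ← hc1, ← hc1]
      exact coeff_add p.1 q.1 1
    | some h => exact (congrArg (fun z => coeff z h.1) (map_add (lead hK P) p q)).trans (coeff_add _ _ _)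
  let F' : ↥(sectRing (pt P)) →+ (Option G → k) := AddMonoidHom.mk' F hFadd
  have hFmul : ∀ r g : ↥(sectRing (pt P)), g ∈ J →
      F (r * g) = (lead hK P r).coeff 0 • F g := by
    intro r g hg0
    have hl0 : (lead hK P g).coeff 0 = 0 := by
      rw [coeff_lead]
      exact (congrArg (phi hK P 0) (Subtype.ext ((hJmem g).1 hg0) :
        (⟨_, _⟩ : L (((0 : ℕ) : ℤ) • pt P)) = 0)).trans (map_zero _)
    funext o
    cases o with
    | none =>
      refine (algebraMap k K).injective ?_
      show algebraMap k K (c1 (r * g)) = algebraMap k K ((lead hK P r).coeff 0 * c1 g)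
      rw [map_mul, ← hc1, ← hc1]
      show (r.1 * g.1).coeff 1 = _
      rw [coeff_mul, Finset.Nat.antidiagonal_succ, Finset.sum_cons, Finset.Nat.antidiagonal_zero]
      simp only [Finset.map_singleton, Finset.sum_singleton]
      have hr0 : r.1.coeff 0 = algebraMap k K ((lead hK P r).coeff 0) := by
        have hm := r.2 0
        rw [show ((0 : ℕ) : ℤ) • pt P = 0 by simp, FunFld.L_zero hK, Submodule.mem_one] at hm
        obtain ⟨d, hd⟩ := hm
        rw [← hd, coeff_lead]
        congr 1
        refine ((rho_algebraMap hK P d).symm.trans ?_)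
        refine congrArg (rho hK P) (Subtype.ext ?_)
        show algebraMap k K d = unif P ^ 0 * r.1.coeff 0
        rw [pow_zero, one_mul, hd]
      simp [hr0, (hJmem g).1 hg0]
    | some h => exact lead_coeff_mul_eq_zero hK P h.2 r g hl0
  have hTJ : T ∈ J := (hJmem _).2 (by simp [T, coeff_monomial])
  have hsJ : ∀ h, s h ∈ J := fun h => (hJmem _).2 (by simp [s, coeff_monomial, hhpos h])
  have himg : ∀ p ∈ J, F p ∈ Submodule.span k (F '' (B : Set ↥(sectRing (pt P)))) := by
    intro p hp
    have hBJ : ∀ b ∈ B, b ∈ J := fun b hb => hB ▸ Submodule.subset_span hb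
    have key : ∀ q ∈ Submodule.span ↥(sectRing (pt P)) (B : Set ↥(sectRing (pt P))),
        q ∈ J ∧ F q ∈ Submodule.span k (F '' (B : Set ↥(sectRing (pt P)))) := by
      intro q hq
      induction hq using Submodule.span_induction with
      | mem q hq => exact ⟨hBJ q hq, Submodule.subset_span ⟨q, hq, rfl⟩⟩
      | zero => exact ⟨zero_mem _, by rw [show F 0 = 0 from map_zero F']; exact zero_mem _⟩
      | add a b _ _ ha hb => exact ⟨add_mem ha.1 hb.1, by rw [hFadd]; exact add_mem ha.2 hb.2⟩
      | smul r a _ ha =>
        exact ⟨Ideal.mul_mem_left _ _ ha.1, by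
          rw [smul_eq_mul, hFmul r a ha.1]; exact Submodule.smul_mem _ _ ha.2⟩
    exact (key p (hB.symm ▸ hp)).2
  have htop : (⊤ : Submodule k (Option G → k)) ≤ Submodule.span k (F '' (B : Set ↥(sectRing (pt P)))) := by
    rw [← (Pi.basisFun k (Option G)).span_eq, Submodule.span_le]
    rintro _ ⟨o, rfl⟩
    rw [Pi.basisFun_apply, SetLike.mem_coe]
    cases o with
    | none =>
      convert himg T hTJ using 1
      funext o'
      cases o' with
      | none =>
        rw [Pi.single_eq_same]
        refine ((algebraMap k K).injective ?_).symm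
        show algebraMap k K (c1 T) = algebraMap k K 1
        rw [← hc1, map_one]
        simp [T, coeff_monomial]
      | some h =>
        rw [Pi.single_eq_of_ne (by simp)]
        show _ = (lead hK P T).coeff h.1
        have hne : (h : ℕ) ≠ 1 := fun e => one_not_mem_poleOrders hK P hg (e ▸ h.2.1)
        rw [lead_monomial (x := ⟨1, hone⟩), coeff_monomial, if_neg (Ne.symm hne)]
    | some g =>
      convert himg (s g) (hsJ g) using 1
      funext o'
      cases o' with
      | none =>
        rw [Pi.single_eq_of_ne (by simp)]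
        refine ((algebraMap k K).injective ?_).symm
        show algebraMap k K (c1 (s g)) = algebraMap k K 0
        have hne : (g : ℕ) ≠ 1 := fun e => one_not_mem_poleOrders hK P hg (e ▸ g.2.1)
        rw [← hc1, map_zero]
        simp [s, coeff_monomial, hne]
      | some h =>
        show _ = (lead hK P (s g)).coeff h.1
        rw [lead_monomial (x := y g), hy g, coeff_monomial]
        rcases eq_or_ne h g with rfl | hne
        · rw [Pi.single_eq_same, if_pos rfl]
        · rw [Pi.single_eq_of_ne (by simpa using hne), if_neg (fun e => hne (Subtype.ext e.symm))]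
  have hle := Submodule.finrank_mono htop
  rw [finrank_top, Module.finrank_pi, Fintype.card_option] at hle
  have hcard : Module.finrank k (Submodule.span k (F '' (B : Set ↥(sectRing (pt P))))) ≤ B.card := by
    rw [← Finset.coe_image]
    exact (finrank_span_finset_le_card _).trans Finset.card_image_le
  rw [← hBcard]
  have hGcard : Fintype.card G = Set.ncard (minGens (poleOrders P)) :=
    (Nat.card_eq_fintype_card (α := G)).symm.trans (Nat.card_coe_set_eq G)
  omega

end Groth.Agent.SectRingLib
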