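import Groth.Agent.FunFld.Extra
import Groth.Prelude.Def_W4c6gradedringsgwSect
import Mathlib

/-!
The section ring of a rational point: leading coefficients and the Weierstrass semigroup.
-/

namespace Groth.Agent.SectRingLib

open _root_.FunFld _root_.W4c6gradedringsgw WithZero Polynomial IsLocalRing

universe u

variable {k : Type u} [Field k] {K : Type u} [Field K] [Algebra k K]

/-- The divisor `P`. -/
noncomputable abbrev pt (P : Place k K) : Divisor k K := Finsupp.single P 1

theorem smul_pt (P : Place k K) (n : ℤ) : n • pt P = Finsupp.single P n := by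
  rw [Finsupp.smul_single, smul_eq_mul, mul_one]

theorem smul_pt_self (P : Place k K) (n : ℤ) : (n • pt P) P = n := by
  rw [smul_pt, Finsupp.single_eq_same]

theorem smul_pt_ne {P Q : Place k K} (hQ : Q ≠ P) (n : ℤ) : (n • pt P) Q = 0 := by
  rw [smul_pt, Finsupp.single_eq_of_ne hQ]

variable [IsAlgClosed k] (hK : IsFunctionField k K) (P : Place k K)

/-- A uniformizer. -/
noncomputable def unif : K := (FunFld.exists_val P (-1)).choose

omit [IsAlgClosed k] in
theorem val_unif : P.1 (unif P) = exp (-1 : ℤ) := (FunFld.exists_val P (-1)).choose_spec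

include hK in
theorem residue_bijective :
    Function.Bijective (algebraMap k (ResidueField P.O)) := by
  have h1 : Module.finrank k (ResidueField P.O) = 1 := FunFld.deg_eq_one hK P
  refine ⟨(algebraMap k (ResidueField P.O)).injective, fun y => ?_⟩
  obtain ⟨c, hc⟩ := (finrank_eq_one_iff_of_nonzero' (1 : ResidueField P.O) one_ne_zero).1 h1 y
  exact ⟨c, (Algebra.algebraMap_eq_smul_one c).trans hc⟩

/-- The identification of `k` with the residue field at a rational point. -/
noncomputable def resEquiv : k ≃+* ResidueField P.O :=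
  RingEquiv.ofBijective (algebraMap k (ResidueField P.O)) (residue_bijective hK P)

/-- The residue at a rational point. -/
noncomputable def rho : P.O →+* k :=
  (resEquiv hK P).symm.toRingHom.comp (residue P.O)

theorem rho_algebraMap (c : k) : rho hK P (algebraMap k P.O c) = c :=
  (resEquiv hK P).symm_apply_apply c

theorem rho_eq_zero_iff (z : P.O) : rho hK P z = 0 ↔ P.1 (z : K) < 1 := by
  rw [← FunFld.resL_eq_zero P ⟨z.1, z.2⟩]
  exact map_eq_zero_iff (resEquiv hK P).symm.toRingHom (resEquiv hK P).symm.injective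

omit [IsAlgClosed k] in
theorem pow_mul_mem {n : ℕ} {x : K} (hx : x ∈ L ((n : ℤ) • pt P)) : unif P ^ n * x ∈ P.O := by
  have h := hx P
  rw [smul_pt_self] at h
  show P.1 (unif P ^ n * x) ≤ 1
  rw [map_mul, map_pow, val_unif, ← exp_nsmul, nsmul_eq_mul, mul_neg, mul_one]
  calc exp (-(n : ℤ)) * P.1 x ≤ exp (-(n : ℤ)) * exp (n : ℤ) := mul_le_mul' le_rfl h
    _ = 1 := by rw [← exp_add, neg_add_cancel, exp_zero]

/-- The leading coefficient of `x ∈ L(nP)`. -/
noncomputable def phi (n : ℕ) : L ((n : ℤ) • pt P) →ₗ[k] k where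
  toFun x := rho hK P ⟨unif P ^ n * x.1, pow_mul_mem P x.2⟩
  map_add' x y := by
    rw [← map_add]
    exact congrArg _ (Subtype.ext (mul_add _ _ _))
  map_smul' c x := by
    rw [RingHom.id_apply, smul_eq_mul]
    conv_rhs => arg 1; rw [← rho_algebraMap hK P c]
    rw [← map_mul]
    refine congrArg _ (Subtype.ext ?_)
    show unif P ^ n * (c • x.1) = algebraMap k K c * (unif P ^ n * x.1)
    rw [Algebra.smul_def]
    ring

theorem phi_eq_zero_iff {n : ℕ} (x : L ((n : ℤ) • pt P)) :
    phi hK P n x = 0 ↔ x.1 ∈ L (((n : ℤ) - 1) • pt P) := by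
  refine (rho_eq_zero_iff hK P _).trans ?_
  have hx := x.2
  have key : P.1 (unif P ^ n * x.1) < 1 ↔ P.1 x.1 ≤ exp ((n : ℤ) - 1) := by
    rw [map_mul, map_pow, val_unif, ← exp_nsmul, nsmul_eq_mul, mul_neg, mul_one]
    rcases eq_or_ne x.1 0 with h | h
    · simp [h]
    · rw [FunFld.val_eq_exp P h, ← exp_add, ← exp_zero, exp_lt_exp, exp_le_exp]
      omega
  refine key.trans ⟨fun h Q => ?_, fun h => ?_⟩
  · rcases eq_or_ne Q P with rfl | hQ
    · rwa [smul_pt_self]
    · have := hx Q
      rwa [smul_pt_ne hQ] at this ⊢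
  · have := h P
    rwa [smul_pt_self] at this

theorem phi_mul {a b n : ℕ} (h : a + b = n) (x : L ((a : ℤ) • pt P)) (y : L ((b : ℤ) • pt P))
    (hxy : x.1 * y.1 ∈ L ((n : ℤ) • pt P)) :
    phi hK P n ⟨_, hxy⟩ = phi hK P a x * phi hK P b y := by
  show rho hK P _ = rho hK P _ * rho hK P _
  rw [← map_mul]
  refine congrArg _ (Subtype.ext ?_)
  show unif P ^ n * (x.1 * y.1) = unif P ^ a * x.1 * (unif P ^ b * y.1)
  rw [← h, pow_add]
  ring

include hK in
theorem mem_poleOrders_iff {n : ℕ} :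
    n ∈ poleOrders P ↔ ∃ x : L ((n : ℤ) • pt P), phi hK P n x = 1 := by
  have hle : (Finsupp.single P ((n : ℤ) - 1) : Divisor k K) ≤ Finsupp.single P (n : ℤ) :=
    Finsupp.single_le_single.2 (by omega)
  have hb := FunFld.ell_add_single_le hK (Finsupp.single P ((n : ℤ) - 1)) P
  rw [← Finsupp.single_add, sub_add_cancel, FunFld.deg_eq_one hK P] at hb
  have hiff : n ∈ poleOrders P ↔
      L (Finsupp.single P (n : ℤ)) ≠ L (Finsupp.single P ((n : ℤ) - 1) : Divisor k K) := by
    show ell _ = ell _ + 1 ↔ _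
    rw [smul_pt, smul_pt, Ne, FunFld.L_eq_iff hK hle]
    omega
  rw [hiff]
  constructor
  · intro hne
    obtain ⟨x, hx, hx'⟩ := SetLike.exists_of_lt (lt_of_le_of_ne (FunFld.L_mono hle) hne.symm)
    have hxm : x ∈ L ((n : ℤ) • pt P) := by rwa [smul_pt]
    have h0 : phi hK P n ⟨x, hxm⟩ ≠ 0 := fun h0 => hx' (by
      have := (phi_eq_zero_iff hK P _).1 h0
      rwa [smul_pt] at this)
    exact ⟨(phi hK P n ⟨x, hxm⟩)⁻¹ • ⟨x, hxm⟩, by rw [map_smul, smul_eq_mul, inv_mul_cancel₀ h0]⟩
  · rintro ⟨x, hx⟩ e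
    have hL : L ((n : ℤ) • pt P) ≤ L (((n : ℤ) - 1) • pt P) := by rw [smul_pt, smul_pt]; exact e.le
    have hmem : x.1 ∈ L (((n : ℤ) - 1) • pt P) := hL x.2
    rw [(phi_eq_zero_iff hK P x).2 hmem] at hx
    exact zero_ne_one hx

theorem mem_of_phi_ne_zero {n : ℕ} {x : L ((n : ℤ) • pt P)} (h : phi hK P n x ≠ 0) :
    n ∈ poleOrders P :=
  (mem_poleOrders_iff hK P).2 ⟨(phi hK P n x)⁻¹ • x, by rw [map_smul, smul_eq_mul, inv_mul_cancel₀ h]⟩

include hK in
theorem zero_mem_poleOrders : 0 ∈ poleOrders P := by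
  have h1 : (1 : K) ∈ L (((0 : ℕ) : ℤ) • pt P) := fun Q => by simp
  refine (mem_poleOrders_iff hK P).2 ⟨⟨1, h1⟩, ?_⟩
  show rho hK P _ = 1
  rw [← map_one (rho hK P)]
  exact congrArg _ (Subtype.ext (by simp))

include hK in
theorem mem_L_one_iff (hg : 1 ≤ genus k K) {x : K} (hx : x ∈ L ((1 : ℤ) • pt P)) :
    ∃ c : k, x = algebraMap k K c := by
  by_contra hc
  push Not at hc
  have hx0 : x ≠ 0 := fun e => hc 0 (by rw [e, map_zero])
  have hord : ∀ Q : Place k K, Q ≠ P → 0 ≤ Q.ord x := fun Q hQ => by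
    have := hx Q
    rw [smul_pt_ne hQ, FunFld.le_exp_iff Q hx0] at this
    omega
  have hP1 : -1 ≤ P.ord x := by
    have := hx P
    rw [smul_pt_self, FunFld.le_exp_iff P hx0] at this
    omega
  have htr : Transcendental k x :=
    FunFld.transcendental_of_not_mem hK fun ⟨c, e⟩ => hc c e.symm
  obtain ⟨Q, hQ⟩ := FunFld.exists_pole hK htr
  rcases eq_or_ne Q P with rfl | hne
  · have htop := FunFld.adjoin_eq_top_of_simple_pole hK (FunFld.deg_eq_one hK Q) (x := x) (P := Q)
      (by omega) hord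
    have := (FunFld.rational_props hK htop).2.1
    omega
  · have := hord Q hne
    omega

include hK in
theorem one_not_mem_poleOrders (hg : 1 ≤ genus k K) : 1 ∉ poleOrders P := by
  intro h
  obtain ⟨x, hx⟩ := (mem_poleOrders_iff hK P).1 h
  obtain ⟨c, hc⟩ := mem_L_one_iff hK P hg (by simpa using x.2)
  refine zero_ne_one ((((phi_eq_zero_iff hK P x).2 ?_)).symm.trans hx)
  intro Q
  rw [hc]
  simpa using Q.2.1 c

include hK in
theorem mem_poleOrders_of_large {n : ℕ} (hn : 2 * genus k K + 1 ≤ n) : n ∈ poleOrders P := by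
  have hd := FunFld.deg_eq_one hK P
  have h1 := FunFld.ell_eq_of_deg_ge hK (D := (Finsupp.single P (n : ℤ) : Divisor k K))
    (by rw [FunFld.deg_single, hd]; omega)
  have h2 := FunFld.ell_eq_of_deg_ge hK (D := (Finsupp.single P ((n : ℤ) - 1) : Divisor k K))
    (by rw [FunFld.deg_single, hd]; omega)
  rw [FunFld.deg_single, hd] at h1 h2
  show ell _ = ell _ + 1
  rw [smul_pt, smul_pt]
  omega

/-- The leading-coefficient homomorphism `R → k[T]`. -/
noncomputable def lead : ↥(sectRing (pt P)) →ₐ[k] Polynomial k :=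
  let f : ↥(sectRing (pt P)) → Polynomial k := fun p =>
    ∑ n ∈ Finset.range (p.1.natDegree + 1), monomial n (phi hK P n ⟨p.1.coeff n, p.2 n⟩)
  have hf : ∀ p n, (f p).coeff n = phi hK P n ⟨p.1.coeff n, p.2 n⟩ := fun p n => by
    simp only [f, finsetSum_coeff, coeff_monomial, Finset.sum_ite_eq', Finset.mem_range]
    split_ifs with h
    · rfl
    · have : p.1.coeff n = 0 := coeff_eq_zero_of_natDegree_lt (by omega)
      exact ((congrArg (phi hK P n) (Subtype.ext this :
        (⟨p.1.coeff n, p.2 n⟩ : L ((n : ℤ) • pt P)) = 0)).trans (map_zero _)).symm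
  have hadd : ∀ p q, f (p + q) = f p + f q := fun p q => Polynomial.ext fun n => by
    rw [coeff_add, hf, hf, hf, ← map_add]
    exact congrArg _ (Subtype.ext (coeff_add p.1 q.1 n))
  have hmul : ∀ p q, f (p * q) = f p * f q := fun p q => Polynomial.ext fun n => by
    rw [coeff_mul, hf]
    simp only [hf]
    have hsum : (⟨(p * q).1.coeff n, (p * q).2 n⟩ : L ((n : ℤ) • pt P)) =
        ∑ x ∈ (Finset.HasAntidiagonal.antidiagonal n).attach, ⟨p.1.coeff x.1.1 * q.1.coeff x.1.2, by
          have h := W4c6gradedringsgw.mul_mem_L (p.2 x.1.1) (q.2 x.1.2)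
          rwa [← add_smul, ← Nat.cast_add, Finset.HasAntidiagonal.mem_antidiagonal.1 x.2] at h⟩ := by
      apply Subtype.ext
      rw [AddSubmonoidClass.coe_finsetSum, Finset.sum_attach _ fun x : ℕ × ℕ => p.1.coeff x.1 * q.1.coeff x.2]
      exact coeff_mul p.1 q.1 n
    rw [hsum, map_sum, ← Finset.sum_attach (Finset.HasAntidiagonal.antidiagonal n)]
    exact Finset.sum_congr rfl fun x _ => phi_mul hK P (Finset.HasAntidiagonal.mem_antidiagonal.1 x.2) ⟨_, p.2 _⟩ ⟨_, q.2 _⟩ _
  have hC : ∀ c : k, f (algebraMap k _ c) = Polynomial.C c := fun c => Polynomial.ext fun n => by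
    rw [hf, coeff_C]
    split_ifs with h
    · subst h
      refine Eq.trans ?_ (rho_algebraMap hK P c)
      refine congrArg (rho hK P) (Subtype.ext ?_)
      show unif P ^ 0 * (algebraMap k K[X] c).coeff 0 = algebraMap k K c
      simp [Polynomial.algebraMap_apply]
    · refine (congrArg (phi hK P n) (Subtype.ext ?_ :
        (⟨_, _⟩ : L ((n : ℤ) • pt P)) = 0)).trans (map_zero _)
      show (algebraMap k K[X] c).coeff n = 0
      simp [Polynomial.algebraMap_apply, coeff_C, h]
  { toFun := f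
    map_add' := hadd
    map_mul' := hmul
    map_one' := by rw [← map_one (algebraMap k ↥(sectRing (pt P))), hC, map_one]
    map_zero' := by rw [← map_zero (algebraMap k ↥(sectRing (pt P))), hC, map_zero]
    commutes' := hC }

theorem coeff_lead (p : ↥(sectRing (pt P))) (n : ℕ) :
    (lead hK P p).coeff n = phi hK P n ⟨p.1.coeff n, p.2 n⟩ := by
  show (∑ m ∈ Finset.range (p.1.natDegree + 1), monomial m (phi hK P m ⟨p.1.coeff m, p.2 m⟩)).coeff n = _
  simp only [finsetSum_coeff, coeff_monomial, Finset.sum_ite_eq', Finset.mem_range]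
  split_ifs with h
  · rfl
  · have : p.1.coeff n = 0 := coeff_eq_zero_of_natDegree_lt (by omega)
    exact ((congrArg (phi hK P n) (Subtype.ext this :
      (⟨p.1.coeff n, p.2 n⟩ : L ((n : ℤ) • pt P)) = 0)).trans (map_zero _)).symm

omit [IsAlgClosed k] in
theorem monomial_mem {n : ℕ} {x : K} (hx : x ∈ L ((n : ℤ) • pt P)) :
    monomial n x ∈ sectRing (pt P) := fun m => by
  rw [coeff_monomial]
  split_ifs with h
  · exact h ▸ hx
  · exact zero_mem _

theorem lead_monomial {n : ℕ} (x : L ((n : ℤ) • pt P)) :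
    lead hK P ⟨monomial n x.1, monomial_mem P x.2⟩ = monomial n (phi hK P n x) := by
  ext m
  rw [coeff_lead]
  conv_rhs => rw [coeff_monomial]
  split_ifs with h
  · subst h
    exact congrArg _ (Subtype.ext (coeff_monomial_same _ _))
  · exact (congrArg (phi hK P m) (Subtype.ext (coeff_monomial_of_ne _ (Ne.symm h)) :
      (⟨_, _⟩ : L ((m : ℤ) • pt P)) = 0)).trans (map_zero _)

end Groth.Agent.SectRingLib
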